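import Cfsg.Agent.H621.TP.PslNum
import Cfsg.Agent.H360.Iso.Lin
import Cfsg.Agent.H436.Names
import Cfsg.Agent.S2510

/-!
# Block TP of S3536: `S` is not `PSL_n(u)`, `n ≥ 3` (helper621)
-/

set_option autoImplicit false

namespace Cfsg.Agent.H621.TP

open Matrix Cfsg.Agent.H202.T Cfsg.Agent.H202.TP Cfsg.Agent.H371 Cfsg.Agent.H371.Psl Cfsg.Agent.H360.Iso

/-- the isolated number -/
theorem isoN_of {p q k : ℕ} {S : Type*} [Group S] (h : TK p q k S) : IsoN S (mn q k) where
  elt := h.mem
  iso := fun x r hr hrn hrx => h.iso r x hr hrn hrx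
  not_two_dvd := fun hd => by
    have := h.mn_mod
    omega
  not_three_dvd := fun hd => by
    have := h.mod_eight Nat.prime_three hd
    omega
  big := by
    have := h.mn_ge
    omega

section

variable {F : Type*} [Field F] [Finite F]

/-- an element whose order is a multiple of `u ^ e - 1` in `PSL_{e + 2}(u)` -/
theorem exists_sub_two {e : ℕ} (he : 1 ≤ e) : ∃ x : ProjectiveSpecialLinearGroup (Fin (e + 2)) F,
    Nat.card F ^ e - 1 ∣ orderOf x := by
  have : NeZero e := ⟨by omega⟩
  obtain ⟨K, _, _, hK, f, hf⟩ := LieExceptional.CyclicSylow.exists_singer F e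
  obtain ⟨z, hz⟩ := IsCyclic.exists_ofOrder_eq_natCard (α := Kˣ)
  have hcard : orderOf z = Nat.card F ^ e - 1 := by rw [hz, Nat.card_units, hK]
  set M : Matrix (Fin e) (Fin e) F := (f z : Matrix (Fin e) (Fin e) F) with hM
  have hd0 : M.det ≠ 0 := ((Matrix.isUnit_iff_isUnit_det _).1 (f z).isUnit).ne_zero
  have hdet : M.det * (Matrix.diagonal ![(M.det)⁻¹, (1 : F)]).det = 1 := by
    rw [Matrix.det_diagonal, Fin.prod_univ_two]
    simp [mul_inv_cancel₀ hd0]
  set A := slb M (Matrix.diagonal ![(M.det)⁻¹, (1 : F)]) hdet with hA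
  refine ⟨π (e + 2) F A, ?_⟩
  set o := orderOf (π (e + 2) F A) with ho
  have h1 : π (e + 2) F (A ^ o) = 1 := by rw [map_pow, ho, pow_orderOf_eq_one]
  obtain ⟨c, hc, hc'⟩ := exists_scalar h1
  rw [Matrix.SpecialLinearGroup.coe_pow, ← mblk_smul_one] at hc'
  change mblk M _ ^ o = _ at hc'
  rw [mblk_pow] at hc'
  obtain ⟨h4, h5⟩ := mblk_inj hc'
  have hc1 : c = 1 := by
    have h6 := congrFun (congrFun h5 1) 1
    rw [Matrix.diagonal_pow] at h6
    simpa using h6.symm
  rw [hc1, one_smul] at h4
  have h2 : (f z) ^ o = 1 := by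
    apply Units.ext
    rw [Units.val_pow_eq_pow_val, Units.val_one]
    exact h4
  rw [← hcard]
  apply orderOf_dvd_of_pow_eq_one
  apply hf
  rw [map_pow, map_one, h2]

end

section Main

variable {F : Type} [Field F] [Fintype F] {n p q k : ℕ}

theorem psl_aux (h : TK p q k (ProjectiveSpecialLinearGroup (Fin n) F)) (hn : 3 ≤ n) : False := by
  have hI := isoN_of h
  have hfin : Finite F := Finite.of_fintype F
  have hcard : Nat.card F = Fintype.card F := Nat.card_eq_fintype_card
  have hpp : IsPrimePow (Nat.card F) := hcard ▸ Fintype.isPrimePow_card_of_field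
  have hexc := not_small_three hI
  set u := Nat.card F with hu
  have hu2 : 2 ≤ u := hpp.two_le
  have hmn := h.mn_ge
  rcases psl_row hn hI with ⟨h1, z, hz⟩ | ⟨h1, h2, -⟩
  · -- the top torus
    rw [← hu] at h1 hz
    set g := Nat.gcd n (u - 1) with hg
    have hgn : g ∣ n := Nat.gcd_dvd_left _ _
    have hgu : g ∣ u - 1 := Nat.gcd_dvd_right _ _
    have hg0 : 0 < g := Nat.gcd_pos_of_pos_left _ (by omega)
    have hgn' := Nat.le_of_dvd (by omega) hgn
    have hgu' := Nat.le_of_dvd (by omega) hgu
    have hm : mn q k * g = Sg u n := by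
      have h3 := mul_Sg (u := u) (by omega) n
      rw [← h1, mul_comm] at h3
      exact (Nat.eq_of_mul_eq_mul_right (by omega) h3).symm
    rcases Nat.lt_or_ge 1 g with hg1 | hg1
    · rcases Nat.even_or_odd u with hev | hodd
      · -- `u` even
        obtain ⟨l, t, hl, ht, hlt⟩ := hpp
        rw [← Nat.prime_iff] at hl
        obtain rfl : l = 2 := by
          have h1 : 2 ∣ l ^ t := hlt ▸ even_iff_two_dvd.1 hev
          exact ((Nat.prime_dvd_prime_iff_eq Nat.prime_two hl).1 (Nat.prime_two.dvd_of_dvd_pow h1)).symm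
        have hp2 : Fact (Nat.Prime 2) := ⟨Nat.prime_two⟩
        have hch : CharP F 2 := by
          obtain ⟨r, hr⟩ := CharP.exists F
          have hrp : r.Prime := (CharP.char_is_prime F r)
          have h3 : r ∣ 2 ^ t := by
            rw [hlt, hcard]
            have := Nat.cast_card_eq_zero F
            exact (CharP.cast_eq_zero_iff F r _).1 this
          have := (Nat.prime_dvd_prime_iff_eq hrp Nat.prime_two).1 (hrp.dvd_of_dvd_pow h3)
          rwa [this] at hr
        obtain ⟨x, hx⟩ := S2510.exists_unip_order (F := F) 2 n (by omega)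
        exact false_of_top_even h hlt.symm (by omega) hg1 hgn' (by omega) hm hx
      · -- `u` odd: `g = n`
        have key : ∀ a, a ∣ n → 1 < a → a < n → a + 2 ≤ n → Sg u a ∣ g := by
          intro a han ha1 han' han2
          have h3 : Sg u a ∣ mn q k * g := hm ▸ Sg_dvd han
          refine Nat.Coprime.dvd_of_dvd_mul_left ?_ h3
          rw [Nat.coprime_iff_gcd_eq_one]
          by_contra hne
          obtain ⟨r, hr, hrd⟩ := Nat.exists_prime_and_dvd hne
          have hra : r ∣ Sg u a := hrd.trans (Nat.gcd_dvd_left _ _)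
          have hrm : r ∣ mn q k := hrd.trans (Nat.gcd_dvd_right _ _)
          have hr1 : ¬ r ∣ u - 1 := by
            intro hd
            rcases conn_two_small (F := F) hn hr (hI.ne_two hrm) (Or.inr hd) with h1 | h1
            · exact hI.not_pconn hrm h1
            · exact hexc h1
          have hr2 : r ∣ u ^ a - 1 := by
            rw [← mul_Sg (by omega) a]
            exact hra.mul_left _
          exact hI.not_pconn hrm (adj_two_of_le hr (hI.ne_two hrm) (by omega) han2 hr2 hr1).symm.conn
        have no : ∀ a, a ∣ n → 1 < a → a < n → False := by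
          intro a han ha1 han'
          have h3 : a + 2 ≤ n := by
            obtain ⟨c, hc⟩ := han
            have hc2 : 2 ≤ c := by
              rcases Nat.lt_or_ge c 2 with h4 | h4
              · interval_cases c <;> omega
              · exact h4
            rcases Nat.lt_or_ge n (a + 2) with h4 | h4
            · have h5 : a * 2 ≤ a * c := Nat.mul_le_mul_left a hc2
              omega
            · exact h4
          have h4 := Nat.le_of_dvd hg0 (key a han ha1 han' h3)
          have h5 := le_Sg (u := u) (a := a) (by omega)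
          omega
        have hgn1 : g = n := by
          rcases Nat.lt_or_ge g n with h3 | h3
          · exact (no g hgn hg1 h3).elim
          · omega
        have hno : Odd n := by
          by_contra h3
          rw [Nat.not_odd_iff_even] at h3
          exact no 2 (even_iff_two_dvd.1 h3) (by omega) (by omega)
        rw [hgn1] at hm hz
        exact false_of_top_odd h hodd (by obtain ⟨x, hx⟩ := hodd; omega) hno hn hm hz
    · have hg1 : g = 1 := by omega
      rw [hg1, mul_one] at hm hz
      obtain ⟨e, rfl⟩ : ∃ e, n = e + 1 := ⟨n - 1, by omega⟩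
      rw [Nat.add_sub_cancel] at hz
      exact false_of_gen h hpp (by omega) hm (z := z) (by rw [hz])
  · -- the other torus
    rw [← hu] at h2
    obtain ⟨e, rfl⟩ : ∃ e, n = e + 2 := ⟨n - 2, by omega⟩
    obtain ⟨z, hz⟩ := exists_sub_two (F := F) (e := e) (by omega)
    refine false_of_gen h hpp (e := e) (by omega) ?_ hz
    have h3 := mul_Sg (u := u) (by omega) (e + 1)
    rw [show e + 2 - 1 = e + 1 by omega] at h2
    rw [← h2, mul_comm] at h3
    exact (Nat.eq_of_mul_eq_mul_right (by omega) h3).symm

/-- **`S` is not `PSL_n(u)`, `n ≥ 3`.** -/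
theorem psl {p q k n u : ℕ} {S : Type*} [Group S] [Finite S] (h : TK p q k S) (hg : H436.IsNamed (.psl n u) S)
    (hn : 3 ≤ n) (_hv : ¬ p ∣ u) : False := by
  obtain ⟨F, _, _, -, ⟨e⟩⟩ := hg.real
  exact psl_aux (h.congr e) hn

end Main

end Cfsg.Agent.H621.TP
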