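import Cfsg.Agent.H202.TP.Defs

/-!
# S3536, `PSL_n(u)`: the arithmetic (helper621)
-/

set_option autoImplicit false

namespace Cfsg.Agent.H621.TP

open Cfsg.Agent.H202.T Cfsg.Agent.H202.TP

/-- `1 + u + ... + u ^ (n - 1)` -/
def Sg (u n : ℕ) : ℕ := ∑ i ∈ Finset.range n, u ^ i

theorem Sg_zero (u : ℕ) : Sg u 0 = 0 := by simp [Sg]

theorem Sg_succ (u n : ℕ) : Sg u (n + 1) = Sg u n + u ^ n := by
  simp [Sg, Finset.sum_range_succ]

theorem Sg_succ' (u n : ℕ) : Sg u (n + 1) = 1 + u * Sg u n := by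
  rw [Sg, Finset.sum_range_succ', pow_zero, Sg, Finset.mul_sum, add_comm]
  congr 1
  apply Finset.sum_congr rfl
  intro i _
  rw [pow_succ, mul_comm]

theorem Sg_add (u a b : ℕ) : Sg u (a + b) = Sg u a + u ^ a * Sg u b := by
  induction b with
  | zero => simp [Sg_zero]
  | succ b ih =>
    rw [← add_assoc, Sg_succ, ih, Sg_succ, mul_add, pow_add]
    ring

theorem mul_Sg {u : ℕ} (hu : 1 ≤ u) (n : ℕ) : (u - 1) * Sg u n = u ^ n - 1 := by
  obtain ⟨v, rfl⟩ : ∃ v, u = v + 1 := ⟨u - 1, by omega⟩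
  have h : v * Sg (v + 1) n + 1 = (v + 1) ^ n := by
    induction n with
    | zero => simp [Sg_zero]
    | succ n ih =>
      rw [Sg_succ, mul_add, pow_succ, ← ih]
      ring
  rw [Nat.add_sub_cancel, ← h, Nat.add_sub_cancel]

theorem Sg_dvd {u a n : ℕ} (h : a ∣ n) : Sg u a ∣ Sg u n := by
  obtain ⟨c, rfl⟩ := h
  induction c with
  | zero => simp [Sg_zero]
  | succ c ih =>
    rw [Nat.mul_succ, add_comm, Sg_add]
    exact dvd_add dvd_rfl (ih.mul_left _)

theorem le_Sg {u a : ℕ} (ha : 2 ≤ a) : u + 1 ≤ Sg u a := by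
  obtain ⟨b, rfl⟩ : ∃ b, a = 2 + b := ⟨a - 2, by omega⟩
  rw [Sg_add]
  have : Sg u 2 = u + 1 := by
    simp [Sg, Finset.sum_range_succ]
    ring
  omega

theorem Sg_pos {u a : ℕ} (ha : 1 ≤ a) : 1 ≤ Sg u a := by
  obtain ⟨b, rfl⟩ : ∃ b, a = b + 1 := ⟨a - 1, by omega⟩
  rw [Sg_succ']
  omega

/-- `u` even: the sum is odd -/
theorem Sg_odd_of_even {u a : ℕ} (hu : Even u) (ha : 1 ≤ a) : Odd (Sg u a) := by
  obtain ⟨b, rfl⟩ : ∃ b, a = b + 1 := ⟨a - 1, by omega⟩
  rw [Sg_succ']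
  exact odd_one.add_even (hu.mul_right _)

/-- `u` odd, `a` odd: the sum is odd -/
theorem Sg_parity {u : ℕ} (hu : Odd u) (a : ℕ) : Sg u a % 2 = a % 2 := by
  induction a with
  | zero => simp [Sg_zero]
  | succ a ih =>
    rw [Sg_succ, Nat.add_mod, ih]
    have : u ^ a % 2 = 1 := Nat.odd_iff.1 hu.pow
    omega

/-- the exact power of 2 -/
theorem exists_two {N : ℕ} (hN : N ≠ 0) : ∃ A, 2 ^ A ∣ N ∧ ¬ 2 ^ (A + 1) ∣ N := by
  obtain ⟨A, b, hb, rfl⟩ := Nat.exists_eq_two_pow_mul_odd hN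
  refine ⟨A, dvd_mul_right _ _, fun h => ?_⟩
  rw [pow_succ] at h
  have := Nat.dvd_of_mul_dvd_mul_left (by positivity) h
  exact (Nat.not_even_iff_odd.2 hb) (even_iff_two_dvd.2 this)

/-! ### The 2-part of `u (1 + ... + u ^ (w - 1)) - w` -/

/-- `u (1 + ... + u ^ (w - 1)) - w` -/
def fz (u : ℤ) (w : ℕ) : ℤ := ∑ i ∈ Finset.range w, (u ^ (i + 1) - 1)

theorem fz_double (u : ℤ) (v : ℕ) : fz u (v + v) = (1 + u ^ v) * fz u v + v * (u ^ v - 1) := by
  have h1 : fz u (v + v) = fz u v + ∑ i ∈ Finset.range v, (u ^ (v + i + 1) - 1) := by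
    rw [fz, Finset.sum_range_add]
    rfl
  have h2 : ∑ i ∈ Finset.range v, (u ^ (v + i + 1) - 1) = u ^ v * fz u v + v * (u ^ v - 1) := by
    rw [fz, Finset.mul_sum]
    have h3 : (v : ℤ) * (u ^ v - 1) = ∑ _i ∈ Finset.range v, (u ^ v - 1) := by
      rw [Finset.sum_const, Finset.card_range, nsmul_eq_mul]
    rw [h3, ← Finset.sum_add_distrib]
    apply Finset.sum_congr rfl
    intro i _
    rw [add_assoc, pow_add]
    ring
  rw [h1, h2]
  ring

theorem sub_one_dvd_fz (u : ℤ) (v : ℕ) : u - 1 ∣ fz u v :=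
  Finset.dvd_sum fun i _ => by simpa using sub_dvd_pow_sub_pow u 1 (i + 1)

theorem fz_eq (u w : ℕ) : fz (u : ℤ) w = (u : ℤ) * (Sg u w : ℕ) - w := by
  rw [fz, Sg, Finset.sum_sub_distrib]
  push_cast
  rw [Finset.mul_sum]
  congr 1
  · apply Finset.sum_congr rfl
    intro i _
    rw [pow_succ, mul_comm]
  · simp

theorem int_exists_two {a : ℤ} (ha : a ≠ 0) : ∃ (j : ℕ) (b : ℤ), Odd b ∧ a = 2 ^ j * b := by
  obtain ⟨j, b, hb, h⟩ := Nat.exists_eq_two_pow_mul_odd (Int.natAbs_ne_zero.2 ha)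
  rcases Int.natAbs_eq a with h1 | h1
  · refine ⟨j, b, (Int.odd_coe_nat b).2 hb, ?_⟩
    rw [h1, h]
    push_cast
    ring
  · refine ⟨j, -b, ((Int.odd_coe_nat b).2 hb).neg, ?_⟩
    rw [h1, h]
    push_cast
    ring

theorem int_pow_dvd {k j : ℕ} {b : ℤ} (hb : Odd b) (h : (2 : ℤ) ^ k ∣ 2 ^ j * b) : k ≤ j := by
  have h1 : (2 : ℤ) ^ k ∣ 2 ^ j := by
    apply IsCoprime.dvd_of_dvd_mul_right _ h
    apply IsCoprime.pow_left
    rw [Int.isCoprime_iff_gcd_eq_one]
    have := Int.natAbs_odd.2 hb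
    rw [Int.gcd]
    exact (Nat.coprime_two_left.2 this)
  by_contra hlt
  push Not at hlt
  have h2 : (2 : ℤ) ^ (j + 1) ∣ 2 ^ j := (pow_dvd_pow 2 hlt).trans h1
  have h3 := Int.le_of_dvd (by positivity) h2
  rw [pow_succ] at h3
  have : (0 : ℤ) < 2 ^ j := by positivity
  omega

theorem int_dvd_of_mul_odd {k : ℕ} {b c : ℤ} (hb : Odd b) (h : (2 : ℤ) ^ k ∣ b * c) : (2 : ℤ) ^ k ∣ c := by
  apply IsCoprime.dvd_of_dvd_mul_left _ h
  apply IsCoprime.pow_left
  rw [Int.isCoprime_iff_gcd_eq_one]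
  have := Int.natAbs_odd.2 hb
  rw [Int.gcd]
  exact (Nat.coprime_two_left.2 this)

theorem fz_two {u : ℤ} (hu : Odd u) (hu2 : 2 ≤ u) (v : ℕ) (hv : 1 ≤ v) :
    ∀ k : ℕ, (2 : ℤ) ^ k ∣ fz u (v + v) → (2 : ℤ) ^ (k + 1) ∣ u ^ (v + v) - 1 := by
  induction v using Nat.strong_induction_on with
  | _ v ih =>
    intro k hk
    have hne : u ^ v - 1 ≠ 0 := by
      have h1 : u ^ 1 ≤ u ^ v := pow_le_pow_right₀ (by omega) hv
      rw [pow_one] at h1
      omega
    obtain ⟨j, a, ha, hja⟩ := int_exists_two hne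
    obtain ⟨c, hc⟩ : ∃ c, 1 + u ^ v = 2 * c := by
      obtain ⟨x, hx⟩ := hu.pow (n := v)
      exact ⟨x + 1, by rw [hx]; ring⟩
    have e : u ^ (v + v) - 1 = 2 ^ (j + 1) * (a * c) := by
      have : u ^ (v + v) - 1 = (u ^ v - 1) * (1 + u ^ v) := by rw [pow_add]; ring
      rw [this, hja, hc]
      ring
    suffices hkj : k ≤ j by
      rw [e]
      exact (pow_dvd_pow 2 (by omega)).mul_right _
    rw [fz_double, hc] at hk
    rcases Nat.even_or_odd v with hv2 | hv2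
    · -- `v` even
      obtain ⟨w, rfl⟩ := hv2
      by_contra hlt
      push Not at hlt
      have hc1 : Odd c := by
        obtain ⟨x, hx⟩ := hu.pow (n := w)
        rw [pow_add, hx] at hc
        have : c = 2 * (x ^ 2 + x) + 1 := by linarith
        exact ⟨_, this⟩
      have h1 : (2 : ℤ) ^ (j + 1) ∣ 2 * c * fz u (w + w) + ((w + w : ℕ) : ℤ) * (u ^ (w + w) - 1) :=
        (pow_dvd_pow 2 hlt).trans hk
      have h2 : (2 : ℤ) ^ (j + 1) ∣ ((w + w : ℕ) : ℤ) * (u ^ (w + w) - 1) := by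
        rw [hja]
        refine ⟨w * a, ?_⟩
        push_cast
        ring
      have h3 : (2 : ℤ) ^ (j + 1) ∣ 2 * c * fz u (w + w) := (dvd_add_left h2).1 h1
      have h4 : (2 : ℤ) ^ j ∣ c * fz u (w + w) := by
        obtain ⟨y, hy⟩ := h3
        refine ⟨y, ?_⟩
        have : 2 * (c * fz u (w + w)) = 2 * (2 ^ j * y) := by
          rw [← mul_assoc, hy]
          ring
        linarith
      have h5 := ih w (by omega) (by omega) j (int_dvd_of_mul_odd hc1 h4)
      rw [hja] at h5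
      have := int_pow_dvd ha h5
      omega
    · -- `v` odd
      have hS : Odd (∑ i ∈ Finset.range v, u ^ i) := by
        have key : ∀ n : ℕ, Even ((∑ i ∈ Finset.range n, u ^ i) - n) := by
          intro n
          induction n with
          | zero => simp
          | succ n ih =>
            rw [Finset.sum_range_succ]
            have h1 : Even (u ^ n - 1) := hu.pow.sub_odd odd_one
            have : (∑ i ∈ Finset.range n, u ^ i) + u ^ n - ((n + 1 : ℕ) : ℤ) =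
                ((∑ i ∈ Finset.range n, u ^ i) - n) + (u ^ n - 1) := by
              push_cast
              ring
            rw [this]
            exact ih.add h1
        have h1 := key v
        have h2 : Odd ((v : ℤ)) := (Int.odd_coe_nat v).2 hv2
        have : (∑ i ∈ Finset.range v, u ^ i) = ((∑ i ∈ Finset.range v, u ^ i) - v) + v := by ring
        rw [this]
        exact h1.add_odd h2
      have h1 : (2 : ℤ) ^ j ∣ u - 1 := by
        have h2 : (2 : ℤ) ^ j ∣ (∑ i ∈ Finset.range v, u ^ i) * (u - 1) := by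
          rw [geom_sum_mul, hja]
          exact dvd_mul_right _ _
        exact int_dvd_of_mul_odd hS h2
      obtain ⟨f, hf⟩ := h1.trans (sub_one_dvd_fz u v)
      rw [hf, hja] at hk
      have h3 : 2 * c * (2 ^ j * f) + (v : ℤ) * (2 ^ j * a) = 2 ^ j * (2 * (c * f) + v * a) := by ring
      rw [h3] at hk
      exact int_pow_dvd ((even_two_mul _).add_odd (((Int.odd_coe_nat v).2 hv2).mul ha)) hk

/-! ### The three cases -/

section

variable {p q k : ℕ} {S : Type*} [Group S]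

/-- `m` odd, `g = n` -/
theorem false_of_top_odd (h : TK p q k S) {u d : ℕ} (hu : Odd u) (hu3 : 3 ≤ u) (hd : Odd d) (hd3 : 3 ≤ d)
    (hm : mn q k * d = Sg u d) {z : S} (hz : orderOf z * d = u ^ (d - 1) - 1) : False := by
  obtain ⟨v, rfl⟩ := hd
  rw [Nat.add_sub_cancel, two_mul] at hz
  have hup : 1 < u ^ (v + v) := Nat.one_lt_pow (by omega) (by omega)
  have hz0 : orderOf z ≠ 0 := by
    intro h0
    rw [h0, zero_mul] at hz
    omega
  obtain ⟨A, hA, hA'⟩ := exists_two hz0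
  have h1 := h.two A z hA
  have h2 : (2 : ℤ) ^ A ∣ fz (u : ℤ) (v + v) := by
    obtain ⟨y, hy⟩ := h1
    have hm1 : 1 ≤ mn q k := by have := h.mn_ge; omega
    rw [fz_eq]
    have h3 : (mn q k : ℤ) = 2 ^ A * y + 1 := by
      have : mn q k = 2 ^ A * y + 1 := by omega
      exact_mod_cast this
    have h4 : (mn q k : ℤ) * (v + v + 1) = 1 + u * (Sg u (v + v) : ℕ) := by
      rw [two_mul, Sg_succ'] at hm
      exact_mod_cast hm
    refine ⟨y * (v + v + 1), ?_⟩
    have h5 : (u : ℤ) * (Sg u (v + v) : ℕ) = mn q k * (v + v + 1) - 1 := by linarith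
    rw [h5, h3]
    push_cast
    ring
  have h3 := fz_two (u := (u : ℤ)) ((Int.odd_coe_nat u).2 hu) (by exact_mod_cast (by omega : 2 ≤ u)) v (by omega) A h2
  have h4 : 2 ^ (A + 1) ∣ u ^ (v + v) - 1 := by
    have : ((u ^ (v + v) - 1 : ℕ) : ℤ) = (u : ℤ) ^ (v + v) - 1 := by
      rw [Nat.cast_sub hup.le]
      push_cast
      rfl
    rw [← this] at h3
    exact_mod_cast h3
  rw [← hz] at h4
  exact hA' ((Nat.Coprime.pow_left _ (Nat.coprime_two_left.2 ⟨v, by ring⟩)).dvd_of_dvd_mul_right h4)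

/-- `u` even, `g > 1` -/
theorem false_of_top_even (h : TK p q k S) {u d g t : ℕ} (hu : u = 2 ^ t) (hd : 1 ≤ d) (hg : 1 < g) (hgd : g ≤ d)
    (hgu : g ≤ u) (hm : mn q k * g = Sg u d) {z : S} (hz : 2 ^ Nat.clog 2 d ∣ orderOf z) : False := by
  have h1 := h.two _ z hz
  obtain ⟨e, rfl⟩ : ∃ e, d = e + 1 := ⟨d - 1, by omega⟩
  set c := Nat.clog 2 (e + 1) with hc
  have hcd : e + 1 ≤ 2 ^ c := Nat.le_pow_clog (by norm_num) _
  have hm1 : 1 ≤ mn q k := by have := h.mn_ge; omega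
  have h2 : ∀ x : ℕ, 2 ^ x ∣ mn q k - 1 → 2 ^ x ∣ u → 2 ^ x ∣ g - 1 := by
    intro x hx hxu
    have h3 : (mn q k - 1) * g + (g - 1) = u * Sg u e := by
      rw [Sg_succ'] at hm
      obtain ⟨y, hy⟩ : ∃ y, mn q k = y + 1 := ⟨mn q k - 1, by omega⟩
      rw [hy] at hm ⊢
      rw [Nat.add_sub_cancel]
      have : (y + 1) * g = y * g + g := by ring
      omega
    have h4 : 2 ^ x ∣ (mn q k - 1) * g + (g - 1) := by
      rw [h3]
      exact hxu.mul_right _
    exact (Nat.dvd_add_right (hx.mul_right _)).1 h4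
  rcases le_total c t with hct | hct
  · have h3 := h2 c h1 (hu ▸ pow_dvd_pow 2 hct)
    have := Nat.le_of_dvd (by omega) h3
    omega
  · have h3 := h2 t ((pow_dvd_pow 2 hct).trans h1) (hu ▸ dvd_rfl)
    rw [← hu] at h3
    have := Nat.le_of_dvd (by omega) h3
    omega

/-- a power of 2 which is a power of `p` plus one -/
theorem two_pow_dvd_add {p t i : ℕ} (hp : Odd p) (ht : 2 ≤ t) (h : 2 ^ t = p ^ i + 1) : 2 ^ t ∣ p + 1 := by
  rcases Nat.even_or_odd i with hi | hi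
  · exfalso
    obtain ⟨j, rfl⟩ := hi
    have h1 : 4 ∣ p ^ (j + j) + 1 := by
      rw [← h]
      exact (show (4 : ℕ) = 2 ^ 2 by norm_num) ▸ pow_dvd_pow 2 ht
    obtain ⟨x, hx⟩ := hp.pow (n := j)
    rw [pow_add, hx] at h1
    have : (2 * x + 1) * (2 * x + 1) + 1 = 4 * (x * x + x) + 2 := by ring
    omega
  · obtain ⟨j, rfl⟩ := hi
    have key : ∀ j : ℕ, ∃ c : ℤ, Odd c ∧ (p : ℤ) ^ (2 * j + 1) + 1 = c * (p + 1) := by
      intro j
      induction j with
      | zero => exact ⟨1, odd_one, by ring⟩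
      | succ j ih =>
        obtain ⟨c, hc, hc'⟩ := ih
        refine ⟨p ^ 2 * c - (p - 1), ?_, ?_⟩
        · have h1 : Odd ((p : ℤ)) := (Int.odd_coe_nat p).2 hp
          exact (h1.pow.mul hc).sub_even (h1.sub_odd odd_one)
        · have : (p : ℤ) ^ (2 * (j + 1) + 1) + 1 = p ^ 2 * (p ^ (2 * j + 1) + 1) - (p ^ 2 - 1) := by ring
          rw [this, hc']
          ring
    obtain ⟨c, hc, hc'⟩ := key j
    have h1 : (2 : ℤ) ^ t ∣ c * (p + 1) := by
      rw [← hc']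
      refine ⟨1, ?_⟩
      rw [mul_one]
      exact_mod_cast h.symm
    have h2 := int_dvd_of_mul_odd hc h1
    exact_mod_cast h2

/-- the general case: `m = 1 + u + ... + u ^ e`, an element of order `u ^ e - 1` -/
theorem false_of_gen (h : TK p q k S) {u e : ℕ} (hu : IsPrimePow u) (he : 1 ≤ e) (hm : mn q k = Sg u (e + 1)) {z : S}
    (hz : u ^ e - 1 ∣ orderOf z) : False := by
  have hm1 : mn q k - 1 = u * Sg u e := by
    rw [hm, Sg_succ']
    omega
  have hu2 := hu.two_le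
  have hS0 := Sg_pos (u := u) he
  have hpow : (u - 1) * Sg u e = u ^ e - 1 := mul_Sg (by omega) e
  have hpow0 : u ^ e - 1 ≠ 0 := by
    rw [← hpow]
    exact (Nat.mul_pos (by omega) hS0).ne'
  rcases Nat.even_or_odd u with hev | hodd
  · -- `u` even
    obtain ⟨l, t, hl, ht, hlt⟩ := hu
    rw [← Nat.prime_iff] at hl
    obtain rfl : l = 2 := by
      have h1 : 2 ∣ l ^ t := hlt ▸ even_iff_two_dvd.1 hev
      exact ((Nat.prime_dvd_prime_iff_eq Nat.prime_two hl).1 (Nat.prime_two.dvd_of_dvd_pow h1)).symm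
    have hSo : Odd (Sg u e) := Sg_odd_of_even hev he
    obtain ⟨j, hj⟩ := h.tor_all z (by
      intro s hs hs2 hsm
      rw [hm1] at hsm
      have h1 : ¬ s ∣ u := by
        rw [← hlt]
        intro h2
        exact hs2 ((Nat.prime_dvd_prime_iff_eq hs Nat.prime_two).1 (hs.dvd_of_dvd_pow h2))
      have h2 := (hs.dvd_mul.1 hsm).resolve_left h1
      exact (h2.mul_left (u - 1)).trans (hpow ▸ hz))
    have h1 : (u - 1) * Sg u e ∣ (p ^ j * u) * Sg u e := by
      rw [hpow, mul_assoc, ← hm1]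
      exact hz.trans hj
    have h2 := Nat.dvd_of_mul_dvd_mul_right hS0 h1
    have h3 : Nat.Coprime (u - 1) u := (Nat.coprime_self_sub_left (show 1 ≤ u by omega)).2 (Nat.coprime_one_left u)
    have h4 := h3.dvd_of_dvd_mul_right h2
    obtain ⟨i, -, hi⟩ := (Nat.dvd_prime_pow h.prime).1 h4
    -- `8 ∣ u`
    have h8 : 8 ∣ u := by
      have h5 := h.mn_mod
      have h6 : 8 ∣ u * Sg u e := by
        rw [← hm1]
        omega
      exact (Nat.Coprime.pow_left 3 (Nat.coprime_two_left.2 hSo)).dvd_of_dvd_mul_right h6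
    have ht3 : 3 ≤ t := by
      rw [← hlt] at h8
      exact (Nat.pow_dvd_pow_iff_le_right (by norm_num : 1 < 2)).1 ((show (8 : ℕ) = 2 ^ 3 by norm_num) ▸ h8)
    have h9 : 2 ^ t = p ^ i + 1 := by
      rw [← hi, hlt]
      omega
    have h10 := two_pow_dvd_add h.odd_p (by omega) h9
    -- `2 ^ (t + 1)` divides `m - 1`
    have h11 : 2 ^ (t + 1) ∣ mn q k - 1 := by
      have h12 := two_mn_sub h.hk2 h.odd
      obtain ⟨a, -, ha⟩ := h.pow
      have h13 : 2 ^ t * 4 ∣ q ^ 2 ^ k - 1 := by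
        have e1 : q ^ 8 - 1 ∣ q ^ 2 ^ k - 1 := by
          obtain ⟨k', hk'⟩ : ∃ k', k = 3 + k' := ⟨k - 3, by have := h.hk; omega⟩
          rw [hk', pow_add, pow_mul]
          have := Nat.sub_dvd_pow_sub_pow (q ^ 2 ^ 3) 1 (2 ^ k')
          norm_num at this ⊢
          exact this
        have e2 : q ^ 8 - 1 = (q ^ 2 - 1) * ((q ^ 2 + 1) * (q ^ 4 + 1)) := by
          have hq1 : 1 ≤ q ^ 2 := Nat.one_le_pow _ _ h.odd.pos
          obtain ⟨x, hx⟩ : ∃ x, q ^ 2 = x + 1 := ⟨q ^ 2 - 1, by omega⟩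
          have e3 : q ^ 8 = (q ^ 2) ^ 4 := by rw [← pow_mul]
          have e4 : q ^ 4 = (q ^ 2) ^ 2 := by rw [← pow_mul]
          rw [e3, e4, hx]
          have : (x + 1) ^ 4 = x * ((x + 1 + 1) * ((x + 1) ^ 2 + 1)) + 1 := by ring
          rw [this]
          simp
        have e5 : p ^ 2 - 1 ∣ q ^ 2 - 1 := by
          rw [ha, ← pow_mul, mul_comm a 2, pow_mul]
          simpa using Nat.sub_dvd_pow_sub_pow (p ^ 2) 1 a
        have e6 : p + 1 ∣ p ^ 2 - 1 := by
          refine ⟨p - 1, ?_⟩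
          have := Nat.sq_sub_sq p 1
          simpa using this
        have e7 : 2 ∣ q ^ 2 + 1 := even_iff_two_dvd.1 (h.odd.pow.add_one)
        have e8 : 2 ∣ q ^ 4 + 1 := even_iff_two_dvd.1 (h.odd.pow.add_one)
        refine Dvd.dvd.trans ?_ e1
        rw [e2]
        exact mul_dvd_mul (h10.trans (e6.trans e5)) (mul_dvd_mul e7 e8)
      rw [← h12] at h13
      have h14 : 2 * 2 ^ (t + 1) ∣ 2 * (mn q k - 1) := by
        have : 2 * 2 ^ (t + 1) = 2 ^ t * 4 := by ring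
        rw [this]
        exact h13
      exact Nat.dvd_of_mul_dvd_mul_left (by norm_num) h14
    rw [hm1, ← hlt, pow_succ] at h11
    have h15 := Nat.dvd_of_mul_dvd_mul_left (by positivity) h11
    rw [hlt] at h15
    exact (Nat.not_even_iff_odd.2 hSo) (even_iff_two_dvd.2 h15)
  · -- `u` odd
    obtain ⟨A, hA, hA'⟩ := exists_two hpow0
    have h1 := h.two A z (hA.trans hz)
    rw [hm1] at h1
    have h2 : 2 ^ A ∣ Sg u e := (Nat.Coprime.pow_left A (Nat.coprime_two_left.2 hodd)).dvd_of_dvd_mul_left h1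
    apply hA'
    rw [← hpow, pow_succ, mul_comm (2 ^ A)]
    refine mul_dvd_mul ?_ h2
    obtain ⟨x, hx⟩ := hodd
    exact ⟨x, by omega⟩

end

end Cfsg.Agent.H621.TP
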